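import Mathlib
import Groth.Agent.Lib.Helper5.DimQ.A
import Groth.Agent.Lib.Helper6.SemiLocalDim

universe u
set_option linter.style.haveILetI false
open Module Ideal Pointwise

namespace Groth.Agent.H5.SOP

variable {A : Type u} [CommRing A]

section Quot
variable {M : Type u} [AddCommGroup M] [Module A M]

/-- `(M/IM)/J(M/IM) → M/(I ⊔ J)M` -/
theorem exists_surjective_ofQuot (I J : Ideal A) :
    ∃ ψ : ((M ⧸ (I • (⊤ : Submodule A M))) ⧸
        (J • (⊤ : Submodule A (M ⧸ (I • (⊤ : Submodule A M)))))) →ₗ[A]
      (M ⧸ ((I ⊔ J) • (⊤ : Submodule A M))), Function.Surjective ψ := by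
  set K : Submodule A M := (I ⊔ J) • (⊤ : Submodule A M) with hK
  have h1 : I • (⊤ : Submodule A M) ≤ LinearMap.ker (Submodule.mkQ K) := by
    rw [Submodule.ker_mkQ]
    exact Submodule.smul_mono le_sup_left le_rfl
  let g1 : (M ⧸ (I • (⊤ : Submodule A M))) →ₗ[A] M ⧸ K := Submodule.liftQ _ (Submodule.mkQ K) h1
  have hg1 : ∀ m : M, g1 (Submodule.Quotient.mk m) = Submodule.Quotient.mk m := fun m => rfl
  have h2 : J • (⊤ : Submodule A (M ⧸ (I • (⊤ : Submodule A M)))) ≤ LinearMap.ker g1 := by
    rw [Submodule.smul_le]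
    intro j hj z _
    obtain ⟨m, rfl⟩ := Submodule.Quotient.mk_surjective _ z
    rw [LinearMap.mem_ker, map_smul, hg1, ← Submodule.Quotient.mk_smul,
      Submodule.Quotient.mk_eq_zero]
    exact Submodule.smul_mem_smul (Submodule.mem_sup_right hj) Submodule.mem_top
  refine ⟨Submodule.liftQ _ g1 h2, ?_⟩
  intro z
  obtain ⟨m, rfl⟩ := Submodule.Quotient.mk_surjective _ z
  exact ⟨Submodule.Quotient.mk (Submodule.Quotient.mk m), rfl⟩

/-- `M/(I ⊔ J)M → (M/IM)/J(M/IM)` -/
theorem exists_surjective_toQuot (I J : Ideal A) :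
    ∃ φ : (M ⧸ ((I ⊔ J) • (⊤ : Submodule A M))) →ₗ[A]
      ((M ⧸ (I • (⊤ : Submodule A M))) ⧸
        (J • (⊤ : Submodule A (M ⧸ (I • (⊤ : Submodule A M)))))), Function.Surjective φ := by
  let g : M →ₗ[A] ((M ⧸ (I • (⊤ : Submodule A M))) ⧸
        (J • (⊤ : Submodule A (M ⧸ (I • (⊤ : Submodule A M)))))) :=
    (Submodule.mkQ _).comp (Submodule.mkQ (I • (⊤ : Submodule A M)))
  have hg : Function.Surjective g :=
    (Submodule.mkQ_surjective _).comp (Submodule.mkQ_surjective _)
  have hker : (I ⊔ J) • (⊤ : Submodule A M) ≤ LinearMap.ker g := by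
    rw [Submodule.smul_le]
    intro r hr m _
    obtain ⟨i, hi, j, hj, rfl⟩ := Submodule.mem_sup.mp hr
    rw [LinearMap.mem_ker, add_smul, map_add]
    have h1 : g (i • m) = 0 := by
      change Submodule.mkQ _ (Submodule.mkQ (I • (⊤ : Submodule A M)) (i • m)) = 0
      have : Submodule.mkQ (I • (⊤ : Submodule A M)) (i • m) = 0 := by
        rw [Submodule.mkQ_apply, Submodule.Quotient.mk_eq_zero]
        exact Submodule.smul_mem_smul hi Submodule.mem_top
      rw [this, map_zero]
    have h2 : g (j • m) = 0 := by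
      change Submodule.mkQ _ (Submodule.mkQ (I • (⊤ : Submodule A M)) (j • m)) = 0
      rw [map_smul, Submodule.mkQ_apply, Submodule.Quotient.mk_eq_zero]
      exact Submodule.smul_mem_smul hj Submodule.mem_top
    rw [h1, h2, add_zero]
  refine ⟨Submodule.liftQ _ g hker, ?_⟩
  intro z
  obtain ⟨m, rfl⟩ := hg z
  exact ⟨Submodule.Quotient.mk m, rfl⟩

end Quot

theorem mem_jacobson_annihilator (M : Type u) [AddCommGroup M] [Module A M] {x : A}
    (hx : x ∈ Ring.jacobson A) : x ∈ (annihilator A M).jacobson := by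
  rw [← Ideal.jacobson_bot] at hx
  exact Ideal.jacobson_mono bot_le hx

/-- each element of the Jacobson radical lowers the dimension by at most one -/
theorem supportDim_le_add_length [IsNoetherianRing A] (xs : List A) :
    ∀ (M : Type u) [AddCommGroup M] [Module A M] [Module.Finite A M],
      (∀ x ∈ xs, x ∈ Ring.jacobson A) →
      Module.supportDim A M ≤
        Module.supportDim A (M ⧸ (Ideal.ofList xs • (⊤ : Submodule A M))) + xs.length := by
  induction xs with
  | nil =>
    intro M _ _ _ _
    have hbot : Ideal.ofList ([] : List A) • (⊤ : Submodule A M) = ⊥ := by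
      rw [Ideal.ofList_nil, Submodule.bot_smul]
    rw [List.length_nil, Nat.cast_zero, add_zero,
      Module.supportDim_eq_of_equiv (Submodule.quotEquivOfEqBot _ hbot)]
  | cons x xs ih =>
    intro M _ _ _ hxs
    have hx : x ∈ (annihilator A M).jacobson :=
      mem_jacobson_annihilator M (hxs x List.mem_cons_self)
    have h1 := Module.supportDim_le_supportDim_quotSMulTop_succ_of_mem_jacobson (M := M) hx
    have h2 := ih (QuotSMulTop x M) (fun y hy => hxs y (List.mem_cons_of_mem x hy))
    rw [Module.supportDim_eq_of_equiv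
      (Submodule.quotOfListConsSMulTopEquivQuotSMulTopInner M x xs), List.length_cons]
    push_cast
    rw [← add_assoc]
    exact h1.trans (add_le_add_left h2 1)

theorem ofList_ofFn {n : ℕ} (x : Fin n → A) :
    Ideal.ofList (List.ofFn x) = Ideal.span (Set.range x) := by
  unfold Ideal.ofList
  congr 1
  ext a
  simp [List.mem_ofFn]

theorem span_range_get (ys : List A) :
    Ideal.span (Set.range ys.get) = Ideal.ofList ys := by
  unfold Ideal.ofList
  congr 1
  ext a
  simp [List.mem_iff_get]

theorem main (A : Type u) [CommRing A]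
    [IsNoetherianRing A] [Finite (MaximalSpectrum A)] (M : Type u) [AddCommGroup M] [Module A M]
    [Module.Finite A M] [Nontrivial M] (xs : List A) (hxs : ∀ x ∈ xs, x ∈ Ring.jacobson A) :
    Module.supportDim A (M ⧸ (Ideal.ofList xs • (⊤ : Submodule A M))) + xs.length = Module.supportDim A M ↔
      ∃ ys : List A, (∀ y ∈ ys, y ∈ Ring.jacobson A) ∧
        ((xs ++ ys).length : WithBot ℕ∞) = Module.supportDim A M ∧
        IsFiniteLength A (M ⧸ (Ideal.ofList (xs ++ ys) • (⊤ : Submodule A M))) := by
  set N := M ⧸ (Ideal.ofList xs • (⊤ : Submodule A M)) with hN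
  constructor
  · intro h
    -- N is nontrivial
    have hNnt : Nontrivial N := by
      apply Submodule.Quotient.nontrivial_iff.mpr
      refine (Submodule.top_ne_ideal_smul_of_le_jacobson_annihilator ?_).symm
      rw [Ideal.ofList, Ideal.span_le]
      intro x hx
      exact mem_jacobson_annihilator M (hxs x hx)
    have hlt : Module.supportDim A N < ⊤ :=
      lt_of_le_of_lt (Module.supportDim_le_ringKrullDim A N) Groth.Agent.Lib.Helper5.DimQ.ringKrullDim_lt_top
    have hne : Module.supportDim A N ≠ ⊥ := Module.supportDim_ne_bot_of_nontrivial A N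
    obtain ⟨d, hd⟩ : ∃ d : ℕ, Module.supportDim A N = (d : WithBot ℕ∞) := by
      generalize Module.supportDim A N = a at hlt hne
      induction a with
      | bot => exact absurd rfl hne
      | coe a =>
        induction a with
        | top => exact absurd hlt (lt_irrefl _)
        | coe d => exact ⟨d, rfl⟩
    obtain ⟨x, hx, hfl⟩ := Groth.Agent.H6.SLD.exists_parameters d N (le_of_eq hd)
    refine ⟨List.ofFn x, ?_, ?_, ?_⟩
    · intro y hy
      rw [List.mem_ofFn] at hy
      obtain ⟨i, rfl⟩ := hy
      exact hx i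
    · rw [← h, hd, List.length_append, List.length_ofFn]
      push_cast
      rw [add_comm]
    · rw [Ideal.ofList_append, ofList_ofFn]
      obtain ⟨ψ, hψ⟩ := exists_surjective_ofQuot (M := M) (Ideal.ofList xs) (Ideal.span (Set.range x))
      exact hfl.of_surjective hψ
  · rintro ⟨ys, hys, hlen, hfl⟩
    apply le_antisymm
    · rw [Ideal.ofList_append] at hfl
      obtain ⟨φ, hφ⟩ := exists_surjective_toQuot (M := M) (Ideal.ofList xs) (Ideal.ofList ys)
      have hfl' := hfl.of_surjective hφ
      rw [← span_range_get ys] at hfl'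
      have h1 := Groth.Agent.H6.SLD.supportDim_le_of_isFiniteLength ys.length N ys.get
        (fun i => hys _ (List.get_mem ys i)) hfl'
      rw [← hlen, List.length_append]
      push_cast
      rw [add_comm (xs.length : WithBot ℕ∞)]
      exact add_le_add_left h1 _
    · exact supportDim_le_add_length xs M hxs

end Groth.Agent.H5.SOP
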